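import Cfsg.Agent.Helper40.Frame.Defs
import Cfsg.Agent.Helper5.OrthSimpleStd
import Cfsg.Agent.Helper44.PlusEmbed
import Cfsg.Agent.Helper44.OrthSum

/-!
# Two generators for `Ω_{2m+1}(q)`, `q` odd: definitions (helper40, for S2413)

`Q = oddForm m F` on `Unit ⊕ (Fin m ⊕ Fin m) → F` (`Q v = v₀² + ∑ i, v (e i) * v (f i)`), the standard
frame `eV i`, `fV i` and the anisotropic vector `v0`.
-/

set_option autoImplicit false

namespace Cfsg.Agent.Helper40.OOdd

open Matrix QuadraticMap Cfsg.Agent.Helper44 Cfsg.Agent.Helper45.OmegaParity Cfsg.Agent.Helper5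
open Cfsg.Agent.Helper40.Frame

variable {F : Type*} [Field F] {m : ℕ}

/-- the index type -/
abbrev Idx (m : ℕ) := Unit ⊕ (Fin m ⊕ Fin m)

/-- the ambient isometry group of the odd form -/
abbrev OG (m : ℕ) (F : Type*) [Field F] := ↥(Cfsg.isometryGroup F ⇑(oddForm m F))

/-- `e_i` -/
def eV (i : Fin m) : Idx m → F := Pi.single (Sum.inr (Sum.inl i)) 1

/-- `f_i` -/
def fV (i : Fin m) : Idx m → F := Pi.single (Sum.inr (Sum.inr i)) 1

/-- the anisotropic vector -/
def v0 : Idx m → F := Pi.single (Sum.inl ()) 1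

theorem eV_e (i j : Fin m) : (eV i : Idx m → F) (Sum.inr (Sum.inl j)) = if j = i then 1 else 0 := by
  unfold eV
  by_cases h : j = i
  · subst h; rw [if_pos rfl, Pi.single_eq_same]
  · rw [if_neg h, Pi.single_eq_of_ne (fun h' => h (Sum.inl.inj (Sum.inr.inj h')))]

theorem eV_f (i j : Fin m) : (eV i : Idx m → F) (Sum.inr (Sum.inr j)) = 0 := by
  unfold eV
  rw [Pi.single_eq_of_ne (by simp)]

theorem eV_0 (i : Fin m) : (eV i : Idx m → F) (Sum.inl ()) = 0 := by
  unfold eV
  rw [Pi.single_eq_of_ne (by simp)]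

theorem fV_f (i j : Fin m) : (fV i : Idx m → F) (Sum.inr (Sum.inr j)) = if j = i then 1 else 0 := by
  unfold fV
  by_cases h : j = i
  · subst h; rw [if_pos rfl, Pi.single_eq_same]
  · rw [if_neg h, Pi.single_eq_of_ne (fun h' => h (Sum.inr.inj (Sum.inr.inj h')))]

theorem fV_e (i j : Fin m) : (fV i : Idx m → F) (Sum.inr (Sum.inl j)) = 0 := by
  unfold fV
  rw [Pi.single_eq_of_ne (by simp)]

theorem fV_0 (i : Fin m) : (fV i : Idx m → F) (Sum.inl ()) = 0 := by
  unfold fV
  rw [Pi.single_eq_of_ne (by simp)]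

theorem v0_0 : (v0 : Idx m → F) (Sum.inl ()) = 1 := by
  unfold v0
  rw [Pi.single_eq_same]

theorem v0_e (j : Fin m) : (v0 : Idx m → F) (Sum.inr (Sum.inl j)) = 0 := by
  unfold v0
  rw [Pi.single_eq_of_ne (by simp)]

theorem v0_f (j : Fin m) : (v0 : Idx m → F) (Sum.inr (Sum.inr j)) = 0 := by
  unfold v0
  rw [Pi.single_eq_of_ne (by simp)]

theorem Q_apply (v : Idx m → F) :
    oddForm m F v = v (Sum.inl ()) ^ 2 + ∑ i : Fin m, v (Sum.inr (Sum.inl i)) * v (Sum.inr (Sum.inr i)) := rfl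

theorem polar_apply (u v : Idx m → F) :
    polar ⇑(oddForm m F) u v = 2 * u (Sum.inl ()) * v (Sum.inl ())
      + ∑ i : Fin m, (u (Sum.inr (Sum.inl i)) * v (Sum.inr (Sum.inr i))
          + v (Sum.inr (Sum.inl i)) * u (Sum.inr (Sum.inr i))) := by
  rw [oddForm_coe, polar_quadFormOdd, polar_quadFormPlus]
  rfl

theorem Q_eV (i : Fin m) : oddForm m F (eV i) = 0 := by
  rw [Q_apply, eV_0]
  rw [Finset.sum_eq_zero]
  · ring
  · intro j _
    rw [eV_f, mul_zero]

theorem Q_fV (i : Fin m) : oddForm m F (fV i) = 0 := by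
  rw [Q_apply, fV_0]
  rw [Finset.sum_eq_zero]
  · ring
  · intro j _
    rw [fV_e, zero_mul]

theorem Q_v0 : oddForm m F (v0 : Idx m → F) = 1 := by
  rw [Q_apply, v0_0]
  rw [Finset.sum_eq_zero]
  · ring
  · intro j _
    rw [v0_e, zero_mul]

theorem polar_eV (i : Fin m) (v : Idx m → F) :
    polar ⇑(oddForm m F) (eV i) v = v (Sum.inr (Sum.inr i)) := by
  rw [polar_apply, eV_0, mul_zero, zero_mul, zero_add, Finset.sum_eq_single i]
  · rw [eV_e, if_pos rfl, eV_f, one_mul, mul_zero, add_zero]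
  · intro j _ hj
    rw [eV_e, if_neg hj, eV_f, zero_mul, mul_zero, add_zero]
  · intro h; exact absurd (Finset.mem_univ _) h

theorem polar_fV (i : Fin m) (v : Idx m → F) :
    polar ⇑(oddForm m F) (fV i) v = v (Sum.inr (Sum.inl i)) := by
  rw [polar_apply, fV_0, mul_zero, zero_mul, zero_add, Finset.sum_eq_single i]
  · rw [fV_e, fV_f, if_pos rfl, zero_mul, mul_one, zero_add]
  · intro j _ hj
    rw [fV_e, fV_f, if_neg hj, zero_mul, mul_zero, add_zero]
  · intro h; exact absurd (Finset.mem_univ _) h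

theorem polar_v0 (v : Idx m → F) :
    polar ⇑(oddForm m F) (v0 : Idx m → F) v = 2 * v (Sum.inl ()) := by
  rw [polar_apply, v0_0, mul_one, Finset.sum_eq_zero, add_zero]
  intro j _
  rw [v0_e, v0_f, zero_mul, mul_zero, add_zero]

/-- the standard frame -/
def frame (m : ℕ) (F : Type*) [Field F] : HFrame (oddForm m F) m where
  e := eV
  f := fV
  Qe := Q_eV
  Qf := Q_fV
  ee i j := by rw [polar_eV, eV_f]
  ff i j := by rw [polar_fV, fV_e]
  ef i j := by
    rw [polar_eV, fV_f]

theorem frame_e (i : Fin m) : (frame m F).e i = eV i := rfl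

theorem frame_f (i : Fin m) : (frame m F).f i = fV i := rfl

theorem mem_W_iff (z : Idx m → F) : z ∈ (frame m F).W ↔ z = z (Sum.inl ()) • v0 := by
  constructor
  · intro hz
    funext a
    rcases a with a | a | a
    · cases a
      rw [Pi.smul_apply, v0_0, smul_eq_mul, mul_one]
    · have := (hz a).2
      rw [frame_f, polar_fV] at this
      rw [this, Pi.smul_apply, v0_e, smul_zero]
    · have := (hz a).1
      rw [frame_e, polar_eV] at this
      rw [this, Pi.smul_apply, v0_f, smul_zero]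
  · intro hz i
    rw [hz, frame_e, frame_f, polar_eV, polar_fV, Pi.smul_apply, Pi.smul_apply, v0_e, v0_f, smul_zero]
    exact ⟨rfl, rfl⟩

theorem v0_mem_W : (v0 : Idx m → F) ∈ (frame m F).W := by
  rw [mem_W_iff, v0_0, one_smul]

theorem smul_v0_mem_W (s : F) : s • (v0 : Idx m → F) ∈ (frame m F).W :=
  (frame m F).W.smul_mem s v0_mem_W

theorem aniso (z : Idx m → F) (hz : z ∈ (frame m F).W) (hQ : oddForm m F z = 0) : z = 0 := by
  rw [mem_W_iff] at hz
  rw [hz, QuadraticMap.map_smul, Q_v0, smul_eq_mul, mul_one] at hQ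
  rw [hz, mul_self_eq_zero.1 hQ, zero_smul]

theorem card_idx (m : ℕ) : Fintype.card (Idx m) = 2 * m + 1 := by
  rw [Fintype.card_sum, Fintype.card_sum, Fintype.card_fin, Fintype.card_unit]; ring

/-- `Ω` is generated by the Eichler transformations -/
theorem Omega_eq [Fintype F] (h2 : (2 : F) ≠ 0) (hm : 3 ≤ m) :
    Cfsg.Omega F ⇑(oddForm m F) = eichlerGroup (oddForm m F) :=
  Omega_eq_eichlerGroup (oddForm m F) (nondegenerate_oddForm h2 m) (by rw [card_idx]; omega)

theorem eichlerO_mem_Omega' [Fintype F] (h2 : (2 : F) ≠ 0) (hm : 3 ≤ m) (u w : Idx m → F) :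
    eichlerO (oddForm m F) u w ∈ Cfsg.Omega F ⇑(oddForm m F) := by
  rw [Omega_eq h2 hm]
  exact eichlerO_mem_eichlerGroup _ u w

/-- short root elements -/
noncomputable def xsp (i : Fin m) (t : F) : OG m F := (frame m F).xe i (t • v0)

/-- short root elements -/
noncomputable def xsm (i : Fin m) (t : F) : OG m F := (frame m F).xf i (t • v0)

/-- the unipotent choice (used for `|F| > 3`) -/
noncomputable def yU (p : Fin m) : OG m F := xsm p 1 * xsp p 1 * xsm p (-1)

/-- the involution (used for `|F| = 3`) -/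
noncomputable def y3 (p : Fin m) : OG m F := xsp p 2 * xsm p 1

end Cfsg.Agent.Helper40.OOdd
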