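import Cfsg.Agent.Helper40.OOdd.Defs

/-!
# The embedding `SL_m → O_{2m+1}`, `A ↦ diag(1, A, A⁻ᵀ)` (helper40, for S2413)
-/

set_option autoImplicit false

namespace Cfsg.Agent.Helper40.OOdd

open Matrix QuadraticMap Cfsg.Agent.Helper44 Cfsg.Agent.Helper45.OmegaParity Cfsg.Agent.Helper5
open Cfsg.Agent.Helper40.Frame

variable {F : Type*} [Field F] {m : ℕ}

/-- the form `x²` on `Unit → F` -/
def sq1 (F : Type*) [Field F] : (Unit → F) → F := fun u => u () ^ 2

/-- `A ↦ diag(1, A, A⁻ᵀ)` on `SL_m` -/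
def io : Matrix.SpecialLinearGroup (Fin m) F →* OG m F :=
  (blockDiagIso (sq1 F) (quadFormPlus m F)).comp
    ((MonoidHom.inr _ _).comp ((plusEmbed (F := F) (m := m)).comp Matrix.SpecialLinearGroup.toGL))

theorem io_coe (A : Matrix.SpecialLinearGroup (Fin m) F) :
    (((io A : OG m F) : GL (Idx m) F) : Matrix (Idx m) (Idx m) F)
      = Matrix.fromBlocks (1 : Matrix Unit Unit F) 0 0
          (Matrix.fromBlocks (A : Matrix (Fin m) (Fin m) F) 0 0
            ((A⁻¹ : Matrix.SpecialLinearGroup (Fin m) F) : Matrix (Fin m) (Fin m) F)ᵀ) := rfl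

end Cfsg.Agent.Helper40.OOdd
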