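import Cfsg.Agent.Helper40.OOdd.YDefs
import Cfsg.Agent.Helper5.SLn

/-!
# (O-IOTA) for S2413 (helper40): the embedding `io : SL_m →* O_{2m+1}`, `A ↦ diag(1, A, A⁻ᵀ)`
(Proofs: helper30, after helper70's `OPlus/Iota.lean`.)
-/

set_option autoImplicit false

namespace Cfsg.Agent.Helper40.OOdd

open Matrix QuadraticMap Cfsg.Agent.Helper44 Cfsg.Agent.Helper45.OmegaParity Cfsg.Agent.Helper5
open Cfsg.Agent.Helper40.Frame

variable {F : Type*} [Field F] {m : ℕ}

theorem lin_io_eV (A : Matrix.SpecialLinearGroup (Fin m) F) (j : Fin m) :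
    lin (oddForm m F) (io A) (eV j) = ∑ i, A.1 i j • (eV i : Idx m → F) := by
  ext k
  rw [lin_apply, io_coe, eV, Matrix.mulVec_single_one, Finset.sum_apply]
  rcases k with k | k | k
  · cases k
    simp only [Matrix.col_apply, Matrix.fromBlocks_apply₁₂, Matrix.zero_apply, Pi.smul_apply,
      eV_0, smul_eq_mul, mul_zero, Finset.sum_const_zero]
  · simp only [Matrix.col_apply, Matrix.fromBlocks_apply₂₂, Matrix.fromBlocks_apply₁₁, Pi.smul_apply,
      eV_e, smul_eq_mul, mul_ite, mul_one, mul_zero, Finset.sum_ite_eq, Finset.mem_univ, if_true]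
  · simp only [Matrix.col_apply, Matrix.fromBlocks_apply₂₂, Matrix.fromBlocks_apply₂₁, Matrix.zero_apply,
      Pi.smul_apply, eV_f, smul_eq_mul, mul_zero, Finset.sum_const_zero]

theorem lin_io_fV (A : Matrix.SpecialLinearGroup (Fin m) F) (j : Fin m) :
    lin (oddForm m F) (io A) (fV j) = ∑ i, (A⁻¹).1 j i • (fV i : Idx m → F) := by
  ext k
  rw [lin_apply, io_coe, fV, Matrix.mulVec_single_one, Finset.sum_apply]
  rcases k with k | k | k
  · cases k
    simp only [Matrix.col_apply, Matrix.fromBlocks_apply₁₂, Matrix.zero_apply, Pi.smul_apply,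
      fV_0, smul_eq_mul, mul_zero, Finset.sum_const_zero]
  · simp only [Matrix.col_apply, Matrix.fromBlocks_apply₂₂, Matrix.fromBlocks_apply₁₂, Matrix.zero_apply,
      Pi.smul_apply, fV_e, smul_eq_mul, mul_zero, Finset.sum_const_zero]
  · simp only [Matrix.col_apply, Matrix.fromBlocks_apply₂₂, Matrix.transpose_apply, Pi.smul_apply,
      fV_f, smul_eq_mul, mul_ite, mul_one, mul_zero, Finset.sum_ite_eq, Finset.mem_univ, if_true]

theorem lin_io_v0 (A : Matrix.SpecialLinearGroup (Fin m) F) :
    lin (oddForm m F) (io A) v0 = v0 := by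
  ext k
  rw [lin_apply, io_coe, v0, Matrix.mulVec_single_one]
  rcases k with k | k | k
  · cases k
    simp only [Matrix.col_apply, Matrix.fromBlocks_apply₁₁, Matrix.one_apply_eq, Pi.single_eq_same]
  · rw [Matrix.col_apply, Matrix.fromBlocks_apply₂₁, Matrix.zero_apply,
      Pi.single_eq_of_ne (by simp)]
  · rw [Matrix.col_apply, Matrix.fromBlocks_apply₂₁, Matrix.zero_apply,
      Pi.single_eq_of_ne (by simp)]

/-- if the `j`-th column of `A` is the `j`-th unit vector then `io A` fixes `e_j` -/
theorem lin_io_eV_fix (A : Matrix.SpecialLinearGroup (Fin m) F) (j : Fin m)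
    (h : ∀ i, A.1 i j = if i = j then 1 else 0) :
    lin (oddForm m F) (io A) (eV j) = eV j := by
  rw [lin_io_eV]
  simp only [h, ite_smul, one_smul, zero_smul, Finset.sum_ite_eq', Finset.mem_univ, if_true]

/-- the `j`-th row of `A⁻¹` when the `j`-th row of `A` is the `j`-th unit vector -/
theorem Io_inv_row (A : Matrix.SpecialLinearGroup (Fin m) F) (j : Fin m)
    (h : ∀ i, A.1 j i = if i = j then 1 else 0) (i : Fin m) :
    (A⁻¹).1 j i = if i = j then 1 else 0 := by
  have h1 : (A * A⁻¹).1 j i = (1 : Matrix.SpecialLinearGroup (Fin m) F).1 j i := by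
    rw [mul_inv_cancel]
  rw [Matrix.SpecialLinearGroup.coe_mul, Matrix.mul_apply, Matrix.SpecialLinearGroup.coe_one,
    Matrix.one_apply] at h1
  simp only [h, ite_mul, one_mul, zero_mul, Finset.sum_ite_eq', Finset.mem_univ, if_true] at h1
  rw [h1]
  by_cases hij : j = i
  · rw [if_pos hij, if_pos hij.symm]
  · rw [if_neg hij, if_neg (fun h' => hij h'.symm)]

/-- if the `j`-th row of `A` is the `j`-th unit vector then `io A` fixes `f_j` -/
theorem lin_io_fV_fix (A : Matrix.SpecialLinearGroup (Fin m) F) (j : Fin m)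
    (h : ∀ i, A.1 j i = if i = j then 1 else 0) :
    lin (oddForm m F) (io A) (fV j) = fV j := by
  rw [lin_io_fV]
  simp only [Io_inv_row A j h, ite_smul, one_smul, zero_smul, Finset.sum_ite_eq',
    Finset.mem_univ, if_true]

/-- the inverse of a transvection -/
theorem Io_transvection_inv {i j : Fin m} (hij : i ≠ j) (t : F) :
    (Matrix.SpecialLinearGroup.transvection hij t)⁻¹ =
      Matrix.SpecialLinearGroup.transvection hij (-t) := by
  rw [inv_eq_iff_mul_eq_one]
  apply Subtype.ext
  rw [Matrix.SpecialLinearGroup.coe_mul, Matrix.SpecialLinearGroup.coe_one]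
  show Matrix.transvection i j t * Matrix.transvection i j (-t) = 1
  rw [Matrix.transvection_mul_transvection_same i j hij, add_neg_cancel, Matrix.transvection_zero]

theorem io_transvection {i j : Fin m} (hij : i ≠ j) (t : F) :
    io (Matrix.SpecialLinearGroup.transvection hij t) = (frame m F).xpm i j t := by
  apply isom_ext_basis
  · rw [lin_io_v0, (frame m F).lin_xpm hij, frame_e, frame_f, polar_fV, polar_eV, v0_e, v0_f,
      mul_zero, zero_smul, zero_smul, add_zero, sub_zero]
  · intro k
    rw [lin_io_eV, (frame m F).lin_xpm hij, frame_e, frame_f, polar_fV, polar_eV, eV_e, eV_f,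
      mul_zero, zero_smul, sub_zero]
    have h1 : ∀ i' : Fin m, (Matrix.SpecialLinearGroup.transvection hij t).1 i' k =
        (if i' = k then 1 else 0) + (if i' = i ∧ k = j then t else 0) := by
      intro i'
      rw [Matrix.SpecialLinearGroup.transvection_coe, Matrix.add_apply, Matrix.one_apply,
        Matrix.single_apply]
      congr 1
      by_cases h : i = i' ∧ j = k
      · rw [if_pos h, if_pos ⟨h.1.symm, h.2.symm⟩]
      · rw [if_neg h, if_neg (fun h' => h ⟨h'.1.symm, h'.2.symm⟩)]
    simp only [h1, add_smul, Finset.sum_add_distrib, ite_smul, one_smul, zero_smul,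
      Finset.sum_ite_eq', Finset.mem_univ, if_true]
    congr 1
    by_cases hk : k = j
    · subst hk
      simp only [and_true, Finset.sum_ite_eq', Finset.mem_univ, if_true, mul_one]
    · simp only [hk, and_false, if_false, Finset.sum_const_zero, mul_zero, zero_smul,
        if_neg (fun h' : j = k => hk h'.symm)]
  · intro k
    rw [lin_io_fV, (frame m F).lin_xpm hij, frame_e, frame_f, polar_fV, polar_eV, fV_e, fV_f,
      mul_zero, zero_smul, add_zero, Io_transvection_inv hij t]
    have h1 : ∀ i' : Fin m, (Matrix.SpecialLinearGroup.transvection hij (-t)).1 k i' =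
        (if i' = k then 1 else 0) + (if k = i ∧ i' = j then -t else 0) := by
      intro i'
      rw [Matrix.SpecialLinearGroup.transvection_coe, Matrix.add_apply, Matrix.one_apply,
        Matrix.single_apply]
      congr 1
      · by_cases h : k = i'
        · rw [if_pos h, if_pos h.symm]
        · rw [if_neg h, if_neg (fun h' => h h'.symm)]
      · by_cases h : i = k ∧ j = i'
        · rw [if_pos h, if_pos ⟨h.1.symm, h.2.symm⟩]
        · rw [if_neg h, if_neg (fun h' => h ⟨h'.1.symm, h'.2.symm⟩)]
    simp only [h1, add_smul, Finset.sum_add_distrib, ite_smul, one_smul, zero_smul,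
      Finset.sum_ite_eq', Finset.mem_univ, if_true]
    rw [sub_eq_add_neg]
    congr 1
    by_cases hk : k = i
    · subst hk
      simp only [true_and, Finset.sum_ite_eq', Finset.mem_univ, if_true, mul_one, neg_smul]
    · simp only [hk, false_and, if_false, Finset.sum_const_zero, mul_zero, zero_smul, neg_zero,
        if_neg (fun h' : i = k => hk h'.symm)]

theorem io_mem_Omega [Fintype F] (h2 : (2 : F) ≠ 0) (hm : 3 ≤ m)
    (A : Matrix.SpecialLinearGroup (Fin m) F) :
    io A ∈ Cfsg.Omega F ⇑(oddForm m F) := by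
  have : Nontrivial (Fin m) := Fin.nontrivial_iff_two_le.mpr (by omega)
  have hle : Subgroup.closure {M : Matrix.SpecialLinearGroup (Fin m) F |
      ∃ (i j : Fin m) (hij : i ≠ j) (a : F), M = Matrix.SpecialLinearGroup.transvection hij a} ≤
      (Cfsg.Omega F ⇑(oddForm m F)).comap (io (F := F) (m := m)) := by
    rw [Subgroup.closure_le]
    rintro M ⟨i, j, hij, a, rfl⟩
    show io (Matrix.SpecialLinearGroup.transvection hij a) ∈ Cfsg.Omega F ⇑(oddForm m F)
    rw [io_transvection hij a]
    exact eichlerO_mem_Omega' h2 hm _ _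
  rw [Cfsg.Agent.Helper5.closure_transvection_eq_top] at hle
  exact hle (Subgroup.mem_top A)

end Cfsg.Agent.Helper40.OOdd
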