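import Cfsg.Agent.Helper40.OOdd.YDefs

/-!
# (O-Y3) the involution `y3 p = xsp p 2 * xsm p 1` (piece for S2413; by helper66)
-/

set_option autoImplicit false

namespace Cfsg.Agent.Helper40.OOdd

open Matrix QuadraticMap Cfsg.Agent.Helper44 Cfsg.Agent.Helper45.OmegaParity Cfsg.Agent.Helper5
open Cfsg.Agent.Helper40.Frame

variable {F : Type*} [Field F] {m : ℕ}

theorem y3_fix_eV {p : Fin m} (j : Fin m) (hp : j ≠ p) :
    lin (oddForm m F) (y3 p) (eV j) = eV j := by
  unfold y3
  rw [lin_mul_apply, xsm_eV_ne hp, xsp_eV]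

theorem y3_fix_fV {p : Fin m} (j : Fin m) (hp : j ≠ p) :
    lin (oddForm m F) (y3 p) (fV j) = fV j := by
  unfold y3
  rw [lin_mul_apply, xsm_fV, xsp_fV_ne hp]

theorem y3_eV (p : Fin m) :
    lin (oddForm m F) (y3 p) (eV p) = (1 : F) • eV p + (-1 : F) • fV p + (1 : F) • v0 := by
  unfold y3
  rw [lin_mul_apply, xsm_eV_self]
  simp only [map_sub, map_smul, xsp_eV, xsp_v0, xsp_fV_self]
  module

theorem y3_fV (p : Fin m) :
    lin (oddForm m F) (y3 p) (fV p) = (1 : F) • fV p + (-4 : F) • eV p + (-2 : F) • v0 := by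
  unfold y3
  rw [lin_mul_apply, xsm_fV, xsp_fV_self]
  module

theorem y3_v0_aux (p : Fin m) :
    lin (oddForm m F) (y3 p) (v0 : Idx m → F)
      = (-3 : F) • v0 + (-4 : F) • eV p + (2 : F) • fV p := by
  unfold y3
  rw [lin_mul_apply, xsm_v0]
  simp only [map_add, map_smul, xsp_v0, xsp_fV_self]
  module

/-- `y3` is an involution (in every characteristic) -/
theorem y3_sq (p : Fin m) : (y3 p : OG m F) ^ 2 = 1 := by
  rw [pow_two]
  apply isom_ext_basis
  · rw [lin_mul_apply, lin_one_apply, y3_v0_aux]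
    simp only [map_add, map_smul, y3_v0_aux, y3_eV, y3_fV]
    module
  · intro j
    rw [lin_mul_apply, lin_one_apply]
    by_cases hj : j = p
    · subst hj
      rw [y3_eV]
      simp only [map_add, map_smul, y3_v0_aux, y3_eV, y3_fV]
      module
    · rw [y3_fix_eV j hj, y3_fix_eV j hj]
  · intro j
    rw [lin_mul_apply, lin_one_apply]
    by_cases hj : j = p
    · subst hj
      rw [y3_fV]
      simp only [map_add, map_smul, y3_v0_aux, y3_eV, y3_fV]
      module
    · rw [y3_fix_fV j hj, y3_fix_fV j hj]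

end Cfsg.Agent.Helper40.OOdd
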