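import Cfsg.Agent.Helper40.OOdd.YDefs

/-!
# (O-YU) the unipotent element `yU p = xsm p 1 * xsp p 1 * xsm p (-1)` (piece for S2413; by helper66)
-/

set_option autoImplicit false

namespace Cfsg.Agent.Helper40.OOdd

open Matrix QuadraticMap Cfsg.Agent.Helper44 Cfsg.Agent.Helper45.OmegaParity Cfsg.Agent.Helper5
open Cfsg.Agent.Helper40.Frame

variable {F : Type*} [Field F] {m : ℕ}

theorem yU_fix_eV {p : Fin m} (j : Fin m) (hp : j ≠ p) :
    lin (oddForm m F) (yU p) (eV j) = eV j := by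
  unfold yU
  rw [lin_mul_apply, lin_mul_apply, xsm_eV_ne hp, xsp_eV, xsm_eV_ne hp]

theorem yU_fix_fV {p : Fin m} (j : Fin m) (hp : j ≠ p) :
    lin (oddForm m F) (yU p) (fV j) = fV j := by
  unfold yU
  rw [lin_mul_apply, lin_mul_apply, xsm_fV, xsp_fV_ne hp, xsm_fV]

theorem yU_eV (p : Fin m) :
    lin (oddForm m F) (yU p) (eV p) = (4 : F) • eV p + (-1 : F) • fV p + (-2 : F) • v0 := by
  unfold yU
  rw [lin_mul_apply, lin_mul_apply, xsm_eV_self]
  simp only [map_sub, map_add, map_smul, xsp_eV, xsp_v0, xsp_fV_self, xsm_eV_self, xsm_v0, xsm_fV]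
  module

theorem yU_inv_eq_aux (p : Fin m) :
    ((yU p : OG m F))⁻¹ = xsm p 1 * xsp p (-1) * xsm p (-1) := by
  unfold yU
  rw [_root_.mul_inv_rev, _root_.mul_inv_rev, xsm_inv, xsp_inv, xsm_inv, neg_neg, mul_assoc]

theorem yU_inv_fV (p : Fin m) :
    lin (oddForm m F) (yU p)⁻¹ (fV p) = (4 : F) • fV p + (-1 : F) • eV p + (2 : F) • v0 := by
  rw [yU_inv_eq_aux, lin_mul_apply, lin_mul_apply, xsm_fV, xsp_fV_self]
  simp only [map_sub, map_smul, xsm_eV_self, xsm_v0, xsm_fV]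
  module

theorem yU_pow (p : Fin m) (n : ℕ) (hn : (n : F) = 0) : (yU p : OG m F) ^ n = 1 := by
  have h : (yU p : OG m F) = xsm p 1 * xsp p 1 * (xsm p 1)⁻¹ := by
    unfold yU
    rw [xsm_inv]
  rw [h, conj_pow, xsp_pow, hn, zero_mul, xsp_zero, mul_one, mul_inv_cancel]

end Cfsg.Agent.Helper40.OOdd
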