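import Cfsg.Agent.Helper40.OOdd.Iota
import Cfsg.Agent.Helper40.OOdd.YU
import Cfsg.Agent.Helper40.OOdd.Y3
import Cfsg.Agent.Helper40.Frame.Main
import Cfsg.Agent.Helper40.OPlus.SLEx
import Cfsg.Agent.Helper40.OPlus.YDefs
import Cfsg.Agent.Helper18.Gen.Abs
import Cfsg.Agent.S2402
import Cfsg.Agent.S2403
import Cfsg.Agent.S0301
import Cfsg.Agent.S2411

set_option autoImplicit false

namespace Cfsg.Agent.Helper40.OOdd

open Matrix QuadraticMap Cfsg.Agent.Helper44 Cfsg.Agent.Helper45.OmegaParity Cfsg.Agent.Helper5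
open Cfsg.Agent.Helper40.Frame

variable {F : Type*} [Field F] {m : ℕ}

/-- the general generation lemma -/
theorem gen_of [Fintype F] (h2 : (2 : F) ≠ 0) (hm : 3 ≤ m) (A B : Matrix.SpecialLinearGroup (Fin m) F)
    (hAB : Subgroup.closure ({A, B} : Set (Matrix.SpecialLinearGroup (Fin m) F)) = ⊤)
    (y : OG m F) (hcomm : Commute (io A) y) (n₁ n₂ : ℕ) (h1 : io A ^ n₁ = 1) (hy2 : y ^ n₂ = 1)
    (hcop : Nat.Coprime n₁ n₂) (y₁ y₂ : OG m F)
    (hy₁ : ∀ L : Subgroup (OG m F), y ∈ L → y₁ ∈ L) (hy₂ : ∀ L : Subgroup (OG m F), y ∈ L → y₂ ∈ L)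
    (i p j : Fin m) (hip : i ≠ p) (hij : i ≠ j) (hjp : j ≠ p)
    (h1e : lin (oddForm m F) y₁ (eV i) = eV i) (α₁ β₁ γ₁ : F) (hβ₁ : β₁ ≠ 0) (hγ₁ : γ₁ ≠ 0)
    (h1f : lin (oddForm m F) y₁ (fV p) = α₁ • fV p + β₁ • eV p + γ₁ • v0)
    (h2f : lin (oddForm m F) y₂ (fV i) = fV i) (α₂ β₂ γ₂ : F) (hβ₂ : β₂ ≠ 0) (hγ₂ : γ₂ ≠ 0)
    (h2e : lin (oddForm m F) y₂ (eV p) = α₂ • eV p + β₂ • fV p + γ₂ • v0)
    (L : Subgroup (OG m F)) (ha : io A * y ∈ L) (hb : io B ∈ L) :
    Cfsg.Omega F ⇑(oddForm m F) ≤ L := by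
  obtain ⟨hA, hy⟩ := Cfsg.Agent.Helper18.Gen.mem_of_mul_mem_coprime L (io A) y hcomm n₁ n₂ h1 hy2 hcop ha
  have hSL : ∀ g : Matrix.SpecialLinearGroup (Fin m) F, io g ∈ L := by
    intro g
    have hg : g ∈ Subgroup.closure ({A, B} : Set (Matrix.SpecialLinearGroup (Fin m) F)) := by
      rw [hAB]; exact Subgroup.mem_top _
    have : Subgroup.closure ({A, B} : Set (Matrix.SpecialLinearGroup (Fin m) F)) ≤ L.comap io := by
      rw [Subgroup.closure_le]
      intro z hz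
      rcases hz with rfl | rfl
      · exact hA
      · exact hb
    exact this hg
  have hpm : ∀ i j : Fin m, i ≠ j → ∀ t : F, (frame m F).xpm i j t ∈ L := by
    intro i j hij t
    rw [← io_transvection hij t]
    exact hSL _
  rw [Omega_eq h2 hm]
  have hW : ∀ γ : F, γ ≠ 0 → ∀ z ∈ (frame m F).W, ∃ s : F, z = s • (γ • (v0 : Idx m → F)) := by
    intro γ hγ z hz
    refine ⟨z (Sum.inl ()) / γ, ?_⟩
    rw [smul_smul, div_mul_cancel₀ _ hγ]
    exact (mem_W_iff z).1 hz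
  exact frame_le (frame m F) aniso L hpm y₁ y₂ (hy₁ L hy) (hy₂ L hy) i p j hip hij hjp h1e α₁ β₁ (γ₁ • v0)
    (smul_v0_mem_W γ₁) hβ₁ h1f h2f α₂ β₂ (γ₂ • v0) (smul_v0_mem_W γ₂) hβ₂ h2e (hW γ₁ hγ₁) (hW γ₂ hγ₂)

/-- from "every subgroup containing `g1, g2` contains `Ω`" to two generators of `PΩ` -/
theorem two_gen_PO (g1 g2 : OG m F) (h1 : g1 ∈ Cfsg.Omega F ⇑(oddForm m F))
    (h2 : g2 ∈ Cfsg.Omega F ⇑(oddForm m F))
    (h : ∀ L : Subgroup (OG m F), g1 ∈ L → g2 ∈ L → Cfsg.Omega F ⇑(oddForm m F) ≤ L) :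
    ∃ a b : Cfsg.POmega F (Cfsg.quadFormOdd m F),
      Subgroup.closure ({a, b} : Set (Cfsg.POmega F (Cfsg.quadFormOdd m F))) = ⊤ := by
  set Ω := Cfsg.Omega F ⇑(oddForm m F) with hΩ
  set L := Subgroup.closure ({⟨g1, h1⟩, ⟨g2, h2⟩} : Set ↥Ω) with hL
  have ha : (⟨g1, h1⟩ : ↥Ω) ∈ L := Subgroup.subset_closure (by simp)
  have hb : (⟨g2, h2⟩ : ↥Ω) ∈ L := Subgroup.subset_closure (by simp)
  have hle := h (L.map Ω.subtype) ⟨_, ha, rfl⟩ ⟨_, hb, rfl⟩
  have htop : L = ⊤ := by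
    rw [eq_top_iff]
    intro x _
    obtain ⟨y, hy, hyx⟩ := hle x.2
    have : y = x := Subtype.ext hyx
    rw [← this]
    exact hy
  refine ⟨QuotientGroup.mk' (Subgroup.center ↥Ω) ⟨g1, h1⟩, QuotientGroup.mk' (Subgroup.center ↥Ω) ⟨g2, h2⟩, ?_⟩
  have himg : Subgroup.map (QuotientGroup.mk' (Subgroup.center ↥Ω)) L = ⊤ := by
    rw [htop, ← MonoidHom.range_eq_map]
    exact MonoidHom.range_eq_top.2 (QuotientGroup.mk'_surjective _)
  rw [hL, MonoidHom.map_closure, Set.image_pair] at himg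
  exact himg

section cases

variable [Fintype F] {n : ℕ}

omit [Fintype F] in
/-- `io (T_01(1))` fixes `e_j`, `f_j` for `j ≥ 2` -/
theorem io_x_fix (hn : 2 ≤ n) (x : Matrix.SpecialLinearGroup (Fin (n + 1)) F)
    (hx : (x : Matrix (Fin (n + 1)) (Fin (n + 1)) F) = Matrix.transvection (0 : Fin (n + 1)) (1 : Fin (n + 1)) 1)
    (j : Fin (n + 1)) (hj : 2 ≤ j.val) :
    lin (oddForm (n + 1) F) (io x) (eV j) = eV j ∧ lin (oddForm (n + 1) F) (io x) (fV j) = fV j := by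
  have h1 : (1 : Fin (n + 1)).val = 1 := by
    rw [Fin.val_one']; exact Nat.mod_eq_of_lt (by omega)
  have hj1 : j ≠ 1 := by
    intro h; rw [h, h1] at hj; omega
  have hj0 : j ≠ 0 := by
    intro h; rw [h, Fin.val_zero] at hj; omega
  constructor
  · apply lin_io_eV_fix
    intro i
    rw [hx, Matrix.transvection, Matrix.add_apply, Matrix.single_apply,
      if_neg (fun h => hj1 h.2.symm), add_zero, Matrix.one_apply]
  · apply lin_io_fV_fix
    intro i
    rw [hx, Matrix.transvection, Matrix.add_apply, Matrix.single_apply,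
      if_neg (fun h => hj0 h.1.symm), add_zero, Matrix.one_apply]
    by_cases h : i = j
    · rw [if_pos h, if_pos h.symm]
    · rw [if_neg h, if_neg (fun h' => h h'.symm)]

omit [Fintype F] in
/-- `io (diag (k, k⁻¹, 1, …, 1))` fixes `e_j`, `f_j` for `j ≥ 2` -/
theorem io_h_fix (k : Fˣ) (h : Matrix.SpecialLinearGroup (Fin (n + 1)) F)
    (hh : (h : Matrix (Fin (n + 1)) (Fin (n + 1)) F) = Matrix.diagonal
        (fun i => if i.val = 0 then (k : F) else if i.val = 1 then ((k⁻¹ : Fˣ) : F) else 1))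
    (j : Fin (n + 1)) (hj : 2 ≤ j.val) :
    lin (oddForm (n + 1) F) (io h) (eV j) = eV j ∧ lin (oddForm (n + 1) F) (io h) (fV j) = fV j := by
  have hd : (if j.val = 0 then (k : F) else if j.val = 1 then ((k⁻¹ : Fˣ) : F) else 1) = 1 := by
    rw [if_neg (by omega), if_neg (by omega)]
  constructor
  · apply lin_io_eV_fix
    intro i
    rw [hh, Matrix.diagonal_apply]
    by_cases hij : i = j
    · subst hij; rw [if_pos rfl, if_pos rfl, hd]
    · rw [if_neg hij, if_neg hij]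
  · apply lin_io_fV_fix
    intro i
    rw [hh, Matrix.diagonal_apply]
    by_cases hij : j = i
    · subst hij; rw [if_pos rfl, if_pos rfl, hd]
    · rw [if_neg hij, if_neg (fun h' => hij h'.symm)]

omit [Fintype F] in
theorem lin_inv_fix (g : OG m F) (x : Idx m → F) (h : lin (oddForm m F) g x = x) :
    lin (oddForm m F) g⁻¹ x = x := by
  conv_lhs => rw [← h]
  exact lin_inv_apply _ g x

theorem case_big (h2 : (2 : F) ≠ 0) (hF : 3 < Fintype.card F) (hn : 2 ≤ n) :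
    ∃ g1 g2 : OG (n + 1) F, g1 ∈ Cfsg.Omega F ⇑(oddForm (n + 1) F) ∧
      g2 ∈ Cfsg.Omega F ⇑(oddForm (n + 1) F) ∧
      ∀ L : Subgroup (OG (n + 1) F), g1 ∈ L → g2 ∈ L → Cfsg.Omega F ⇑(oddForm (n + 1) F) ≤ L := by
  obtain ⟨k, hk⟩ := IsCyclic.exists_generator (α := Fˣ)
  obtain ⟨h, hh⟩ := Cfsg.Agent.Helper40.OPlus.exists_h k n (by omega)
  obtain ⟨w, hw⟩ := Cfsg.Agent.Helper40.OPlus.exists_w F n
  have h01 : (0 : Fin (n + 1)) ≠ 1 := by
    intro h'
    have := congrArg Fin.val h'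
    rw [Fin.val_zero, Fin.val_one'] at this
    rw [Nat.mod_eq_of_lt (by omega)] at this
    omega
  set x := Matrix.SpecialLinearGroup.transvection h01 (1 : F) with hxdef
  have hx : (x : Matrix (Fin (n + 1)) (Fin (n + 1)) F) = Matrix.transvection (0 : Fin (n + 1)) (1 : Fin (n + 1)) 1 := rfl
  have hAB := Cfsg.Agent.S2402.main hF n (by omega) k hk h x w hh hx hw
  set p : Fin (n + 1) := ⟨2, by omega⟩ with hp
  have h0p : (0 : Fin (n + 1)) ≠ p := by
    intro h'; have := congrArg Fin.val h'; rw [Fin.val_zero] at this; simp [hp] at this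
  have h1p : (1 : Fin (n + 1)) ≠ p := by
    intro h'; have := congrArg Fin.val h'; rw [Fin.val_one'] at this
    rw [Nat.mod_eq_of_lt (by omega)] at this; simp [hp] at this
  have hm : 3 ≤ n + 1 := by omega
  refine ⟨io h * yU p, io (x * w), mul_mem (io_mem_Omega h2 hm _) (yU_mem_Omega h2 hm _),
    io_mem_Omega h2 hm _, ?_⟩
  intro L h1 h2'
  have hcomm : Commute (io h) (yU p : OG (n + 1) F) :=
    commute_yU _ p (io_h_fix k h hh p (by simp [hp])).1 (io_h_fix k h hh p (by simp [hp])).2 (lin_io_v0 h)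
  have hpow1 : (io h : OG (n + 1) F) ^ (Fintype.card F - 1) = 1 := by
    rw [← map_pow, Cfsg.Agent.Helper40.OPlus.diag_pow_card_sub_one h _ _ hh, map_one]
    intro i
    split_ifs
    · exact k.ne_zero
    · exact (k⁻¹).ne_zero
    · exact one_ne_zero
  have hpow2 : (yU p : OG (n + 1) F) ^ (Fintype.card F) = 1 := yU_pow p _ (Nat.cast_card_eq_zero F)
  have hcop : Nat.Coprime (Fintype.card F - 1) (Fintype.card F) := by
    have : Fintype.card F - 1 + 1 = Fintype.card F := by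
      have := Fintype.card_pos (α := F)
      omega
    rw [← this]
    simp
  have h4 : (4 : F) ≠ 0 := by
    have : (4 : F) = 2 * 2 := by norm_num
    rw [this]
    exact mul_ne_zero h2 h2
  exact gen_of h2 hm h (x * w) hAB (yU p) hcomm _ _ hpow1 hpow2 hcop (yU p)⁻¹ (yU p)
    (fun L hL => L.inv_mem hL) (fun L hL => hL) 0 p 1 h0p h01 h1p
    (lin_inv_fix _ _ (yU_fix_eV 0 h0p)) 4 (-1) 2 (neg_ne_zero.2 one_ne_zero) h2 (yU_inv_fV p)
    (yU_fix_fV 0 h0p) 4 (-1) (-2) (neg_ne_zero.2 one_ne_zero) (neg_ne_zero.2 h2) (yU_eV p) L h1 h2'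

theorem case_three (hF : Fintype.card F = 3) (hn : 2 ≤ n) :
    ∃ g1 g2 : OG (n + 1) F, g1 ∈ Cfsg.Omega F ⇑(oddForm (n + 1) F) ∧
      g2 ∈ Cfsg.Omega F ⇑(oddForm (n + 1) F) ∧
      ∀ L : Subgroup (OG (n + 1) F), g1 ∈ L → g2 ∈ L → Cfsg.Omega F ⇑(oddForm (n + 1) F) ≤ L := by
  have h30 : (3 : F) = 0 := by
    have := Nat.cast_card_eq_zero F
    rw [hF] at this
    exact_mod_cast this
  have h2 : (2 : F) ≠ 0 := by
    intro h
    have : (1 : F) = 0 := by linear_combination h30 - h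
    exact one_ne_zero this
  obtain ⟨w, hw⟩ := Cfsg.Agent.Helper40.OPlus.exists_w F n
  have h01 : (0 : Fin (n + 1)) ≠ 1 := by
    intro h'
    have := congrArg Fin.val h'
    rw [Fin.val_zero, Fin.val_one'] at this
    rw [Nat.mod_eq_of_lt (by omega)] at this
    omega
  set x := Matrix.SpecialLinearGroup.transvection h01 (1 : F) with hxdef
  have hx : (x : Matrix (Fin (n + 1)) (Fin (n + 1)) F) = Matrix.transvection (0 : Fin (n + 1)) (1 : Fin (n + 1)) 1 := rfl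
  have hAB := Cfsg.Agent.S2403.gen_top (by omega) (by omega) x w hx hw
  set p : Fin (n + 1) := ⟨2, by omega⟩ with hp
  have h0p : (0 : Fin (n + 1)) ≠ p := by
    intro h'; have := congrArg Fin.val h'; rw [Fin.val_zero] at this; simp [hp] at this
  have h1p : (1 : Fin (n + 1)) ≠ p := by
    intro h'; have := congrArg Fin.val h'; rw [Fin.val_one'] at this
    rw [Nat.mod_eq_of_lt (by omega)] at this; simp [hp] at this
  have hm : 3 ≤ n + 1 := by omega
  have hxpm : (io x : OG (n + 1) F) = (frame (n + 1) F).xpm 0 1 1 := io_transvection h01 1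
  refine ⟨io x * y3 p, io w, mul_mem (io_mem_Omega h2 hm _) (y3_mem_Omega h2 hm _),
    io_mem_Omega h2 hm _, ?_⟩
  intro L h1 h2'
  have hcomm : Commute (io x) (y3 p : OG (n + 1) F) :=
    commute_y3 _ p (io_x_fix hn x hx p (by simp [hp])).1 (io_x_fix hn x hx p (by simp [hp])).2 (lin_io_v0 x)
  have hpow1 : (io x : OG (n + 1) F) ^ 3 = 1 := by
    rw [hxpm, (frame (n + 1) F).xpm_pow h01, Nat.cast_ofNat, h30, zero_mul, HFrame.xpm_zero]
  have h4 : (4 : F) ≠ 0 := by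
    have : (4 : F) = 2 * 2 := by norm_num
    rw [this]
    exact mul_ne_zero h2 h2
  exact gen_of h2 hm x w hAB (y3 p) hcomm 3 2 hpow1 (y3_sq p) (by decide) (y3 p) (y3 p)
    (fun L hL => hL) (fun L hL => hL) 0 p 1 h0p h01 h1p
    (y3_fix_eV 0 h0p) 1 (-4) (-2) (neg_ne_zero.2 h4) (neg_ne_zero.2 h2) (y3_fV p)
    (y3_fix_fV 0 h0p) 1 (-1) 1 (neg_ne_zero.2 one_ne_zero) one_ne_zero (y3_eV p) L h1 h2'

/-- `PΩ_{2m+1}(q)`, `q` odd, `m ≥ 3`, is generated by two elements -/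
theorem two_generated_ge_three (hodd : Odd (Fintype.card F)) (hm : 3 ≤ m) :
    ∃ a b : Cfsg.POmega F (Cfsg.quadFormOdd m F),
      Subgroup.closure ({a, b} : Set (Cfsg.POmega F (Cfsg.quadFormOdd m F))) = ⊤ := by
  obtain ⟨n, rfl⟩ : ∃ n, m = n + 1 := ⟨m - 1, by omega⟩
  have h2 : (2 : F) ≠ 0 := by
    intro h
    haveI : CharP F 2 := CharTwo.of_one_ne_zero_of_two_eq_zero one_ne_zero h
    have := FiniteField.even_card_of_char_two (F := F) (ringChar.eq F 2)
    exact (Nat.not_even_iff_odd.2 hodd) (Nat.even_iff.2 this)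
  by_cases hF : 3 < Fintype.card F
  · obtain ⟨g1, g2, h1, h2', h⟩ := case_big h2 hF (n := n) (by omega)
    exact two_gen_PO g1 g2 h1 h2' h
  · have h3 : Fintype.card F = 3 := by
      have := Fintype.one_lt_card (α := F)
      obtain ⟨r, hr⟩ := hodd
      omega
    obtain ⟨g1, g2, h1, h2', h⟩ := case_three (F := F) h3 (n := n) (by omega)
    exact two_gen_PO g1 g2 h1 h2' h

/-- the case `m = 2`: transfer from `PSp₄(q)` (S2411) along the isomorphism of S0301 -/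
theorem two_generated_two (hodd : Odd (Fintype.card F)) :
    ∃ a b : Cfsg.POmega F (Cfsg.quadFormOdd 2 F),
      Subgroup.closure ({a, b} : Set (Cfsg.POmega F (Cfsg.quadFormOdd 2 F))) = ⊤ := by
  have h3 : 2 < Fintype.card F := by
    have h1 := Fintype.one_lt_card (α := F)
    obtain ⟨r, hr⟩ := hodd
    omega
  obtain ⟨e⟩ := Cfsg.Agent.S0301.result hodd
  obtain ⟨a, b, hab⟩ := Cfsg.Agent.S2411.result (F := F) 2 le_rfl (fun _ => h3)
  refine ⟨e.symm a, e.symm b, ?_⟩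
  have : Subgroup.map e.symm.toMonoidHom (Subgroup.closure ({a, b} : Set (Cfsg.PSp 2 F))) = ⊤ := by
    rw [hab, ← MonoidHom.range_eq_map]
    exact MonoidHom.range_eq_top.2 e.symm.surjective
  rw [MonoidHom.map_closure, Set.image_pair] at this
  exact this

/-- **`PΩ_{2m+1}(q)`, `q` odd, `m ≥ 2`, is generated by two elements.** -/
theorem two_generated (hodd : Odd (Fintype.card F)) (hm : 2 ≤ m) :
    ∃ a b : Cfsg.POmega F (Cfsg.quadFormOdd m F),
      Subgroup.closure ({a, b} : Set (Cfsg.POmega F (Cfsg.quadFormOdd m F))) = ⊤ := by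
  rcases Nat.lt_or_ge m 3 with h | h
  · have : m = 2 := by omega
    subst this
    exact two_generated_two hodd
  · exact two_generated_ge_three hodd h

end cases

end Cfsg.Agent.Helper40.OOdd
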