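import Cfsg.Agent.Helper40.OOdd.IoDef

/-!
# The short root elements of `Ω_{2m+1}` and the elements `yU`, `y3` (helper40, for S2413): basic facts
-/

set_option autoImplicit false

namespace Cfsg.Agent.Helper40.OOdd

open Matrix QuadraticMap Cfsg.Agent.Helper44 Cfsg.Agent.Helper45.OmegaParity Cfsg.Agent.Helper5
open Cfsg.Agent.Helper40.Frame

variable {F : Type*} [Field F] {m : ℕ}

theorem polar_smul_v0 (t : F) (x : Idx m → F) :
    polar ⇑(oddForm m F) (t • (v0 : Idx m → F)) x = 2 * t * x (Sum.inl ()) := by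
  rw [QuadraticMap.polar_smul_left, polar_v0, smul_eq_mul]
  ring

theorem Q_smul_v0 (t : F) : oddForm m F (t • (v0 : Idx m → F)) = t ^ 2 := by
  rw [QuadraticMap.map_smul, Q_v0, smul_eq_mul, mul_one, _root_.sq]

theorem lin_xsp (i : Fin m) (t : F) (x : Idx m → F) :
    lin (oddForm m F) (xsp i t) x
      = x + (2 * t * x (Sum.inl ())) • eV i - (t * x (Sum.inr (Sum.inr i))) • v0
          - (t ^ 2 * x (Sum.inr (Sum.inr i))) • eV i := by
  unfold xsp
  rw [(frame m F).lin_xe i (smul_v0_mem_W t), polar_smul_v0, Q_smul_v0, frame_e, polar_eV, smul_smul,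
    mul_comm (x (Sum.inr (Sum.inr i))) t]

theorem lin_xsm (i : Fin m) (t : F) (x : Idx m → F) :
    lin (oddForm m F) (xsm i t) x
      = x + (2 * t * x (Sum.inl ())) • fV i - (t * x (Sum.inr (Sum.inl i))) • v0
          - (t ^ 2 * x (Sum.inr (Sum.inl i))) • fV i := by
  unfold xsm
  rw [(frame m F).lin_xf i (smul_v0_mem_W t), polar_smul_v0, Q_smul_v0, frame_f, polar_fV, smul_smul,
    mul_comm (x (Sum.inr (Sum.inl i))) t]

theorem xsp_eV (i j : Fin m) (t : F) : lin (oddForm m F) (xsp i t) (eV j) = eV j := by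
  rw [lin_xsp, eV_0, eV_f]
  simp

theorem xsm_fV (i j : Fin m) (t : F) : lin (oddForm m F) (xsm i t) (fV j) = fV j := by
  rw [lin_xsm, fV_0, fV_e]
  simp

theorem xsp_fV_self (i : Fin m) (t : F) :
    lin (oddForm m F) (xsp i t) (fV i) = fV i - t • v0 - t ^ 2 • eV i := by
  rw [lin_xsp, fV_0, fV_f, if_pos rfl]
  simp

theorem xsp_fV_ne {i j : Fin m} (h : j ≠ i) (t : F) : lin (oddForm m F) (xsp i t) (fV j) = fV j := by
  rw [lin_xsp, fV_0, fV_f, if_neg h.symm]
  simp

theorem xsm_eV_self (i : Fin m) (t : F) :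
    lin (oddForm m F) (xsm i t) (eV i) = eV i - t • v0 - t ^ 2 • fV i := by
  rw [lin_xsm, eV_0, eV_e, if_pos rfl]
  simp

theorem xsm_eV_ne {i j : Fin m} (h : j ≠ i) (t : F) : lin (oddForm m F) (xsm i t) (eV j) = eV j := by
  rw [lin_xsm, eV_0, eV_e, if_neg h.symm]
  simp

theorem xsp_v0 (i : Fin m) (t : F) : lin (oddForm m F) (xsp i t) v0 = v0 + (2 * t) • eV i := by
  rw [lin_xsp, v0_0, v0_f]
  simp

theorem xsm_v0 (i : Fin m) (t : F) : lin (oddForm m F) (xsm i t) v0 = v0 + (2 * t) • fV i := by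
  rw [lin_xsm, v0_0, v0_e]
  simp

theorem xsp_add (i : Fin m) (s t : F) : xsp i s * xsp i t = xsp i (s + t) := by
  unfold xsp
  rw [(frame m F).xe_add i (smul_v0_mem_W s) (smul_v0_mem_W t), add_smul]

theorem xsm_add (i : Fin m) (s t : F) : xsm i s * xsm i t = xsm i (s + t) := by
  unfold xsm
  rw [(frame m F).xf_add i (smul_v0_mem_W s) (smul_v0_mem_W t), add_smul]

theorem xsp_zero (i : Fin m) : xsp i (0 : F) = 1 := by
  unfold xsp
  rw [zero_smul, HFrame.xe_zero]

theorem xsm_zero (i : Fin m) : xsm i (0 : F) = 1 := by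
  unfold xsm
  rw [zero_smul, HFrame.xf_zero]

theorem xsp_inv (i : Fin m) (t : F) : (xsp i t)⁻¹ = xsp i (-t) := by
  rw [inv_eq_iff_mul_eq_one, xsp_add, add_neg_cancel, xsp_zero]

theorem xsm_inv (i : Fin m) (t : F) : (xsm i t)⁻¹ = xsm i (-t) := by
  rw [inv_eq_iff_mul_eq_one, xsm_add, add_neg_cancel, xsm_zero]

theorem xsp_pow (i : Fin m) (t : F) (n : ℕ) : xsp i t ^ n = xsp i ((n : F) * t) := by
  induction n with
  | zero => rw [pow_zero, Nat.cast_zero, zero_mul, xsp_zero]
  | succ n ih => rw [pow_succ, ih, xsp_add, Nat.cast_succ, add_mul, one_mul]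

theorem xsm_pow (i : Fin m) (t : F) (n : ℕ) : xsm i t ^ n = xsm i ((n : F) * t) := by
  induction n with
  | zero => rw [pow_zero, Nat.cast_zero, zero_mul, xsm_zero]
  | succ n ih => rw [pow_succ, ih, xsm_add, Nat.cast_succ, add_mul, one_mul]

/-- an isometry fixing `e_p` and `v0` commutes with `xsp p t` -/
theorem commute_xsp (g : OG m F) (p : Fin m) (h1 : lin (oddForm m F) g (eV p) = eV p)
    (h0 : lin (oddForm m F) g v0 = v0) (t : F) : Commute g (xsp p t) := by
  have h := (frame m F).conj_xe g p (smul_v0_mem_W t)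
  rw [frame_e, h1, map_smul, h0] at h
  show g * xsp p t = xsp p t * g
  rw [mul_inv_eq_iff_eq_mul] at h
  exact h

theorem commute_xsm (g : OG m F) (p : Fin m) (h1 : lin (oddForm m F) g (fV p) = fV p)
    (h0 : lin (oddForm m F) g v0 = v0) (t : F) : Commute g (xsm p t) := by
  have h := (frame m F).conj_xf g p (smul_v0_mem_W t)
  rw [frame_f, h1, map_smul, h0] at h
  show g * xsm p t = xsm p t * g
  rw [mul_inv_eq_iff_eq_mul] at h
  exact h

theorem commute_yU (g : OG m F) (p : Fin m) (h1 : lin (oddForm m F) g (eV p) = eV p)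
    (h2 : lin (oddForm m F) g (fV p) = fV p) (h0 : lin (oddForm m F) g v0 = v0) :
    Commute g (yU p) :=
  ((commute_xsm g p h2 h0 _).mul_right (commute_xsp g p h1 h0 _)).mul_right (commute_xsm g p h2 h0 _)

theorem commute_y3 (g : OG m F) (p : Fin m) (h1 : lin (oddForm m F) g (eV p) = eV p)
    (h2 : lin (oddForm m F) g (fV p) = fV p) (h0 : lin (oddForm m F) g v0 = v0) :
    Commute g (y3 p) :=
  (commute_xsp g p h1 h0 _).mul_right (commute_xsm g p h2 h0 _)

theorem yU_mem_Omega [Fintype F] (h2 : (2 : F) ≠ 0) (hm : 3 ≤ m) (p : Fin m) :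
    (yU p : OG m F) ∈ Cfsg.Omega F ⇑(oddForm m F) :=
  mul_mem (mul_mem (eichlerO_mem_Omega' h2 hm _ _) (eichlerO_mem_Omega' h2 hm _ _))
    (eichlerO_mem_Omega' h2 hm _ _)

theorem y3_mem_Omega [Fintype F] (h2 : (2 : F) ≠ 0) (hm : 3 ≤ m) (p : Fin m) :
    (y3 p : OG m F) ∈ Cfsg.Omega F ⇑(oddForm m F) :=
  mul_mem (eichlerO_mem_Omega' h2 hm _ _) (eichlerO_mem_Omega' h2 hm _ _)

/-- isometries agreeing on the standard basis are equal -/
theorem isom_ext_basis {g h : OG m F}
    (h0 : lin (oddForm m F) g v0 = lin (oddForm m F) h v0)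
    (he : ∀ j : Fin m, lin (oddForm m F) g (eV j) = lin (oddForm m F) h (eV j))
    (hf : ∀ j : Fin m, lin (oddForm m F) g (fV j) = lin (oddForm m F) h (fV j)) : g = h := by
  apply isom_ext
  have : lin (oddForm m F) g = lin (oddForm m F) h := by
    apply LinearMap.pi_ext'
    intro a
    apply LinearMap.ext_ring
    rw [LinearMap.comp_apply, LinearMap.comp_apply, LinearMap.single_apply]
    rcases a with a | a | a
    · cases a
      exact h0
    · exact he a
    · exact hf a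
  intro x
  rw [this]

end Cfsg.Agent.Helper40.OOdd
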